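import Mathlib.RingTheory.Unramified.Locus
import Mathlib.RingTheory.LocalRing.Module
import Mathlib.RingTheory.Nakayama
import Mathlib.RingTheory.Adjoin.Polynomial.Basic
import Mathlib.Algebra.Polynomial.Taylor
import Mathlib.Algebra.TrivSqZeroExt.Ideal
import Mathlib.RingTheory.Ideal.Quotient.Operations
import Mathlib.FieldTheory.Minpoly.Field
import Mathlib.RingTheory.Ideal.GoingUp

/-!
# The derivative criterion for monogenic finite algebras
-/

universe u

open Polynomial

namespace Groth.Agent.UnrMono26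

variable {A B : Type u} [CommRing A] [IsLocalRing A] [CommRing B] [Algebra A B] [Module.Finite A B]

theorem exists_monic (u : B) (hu : Algebra.adjoin A ({u} : Set B) = ⊤) :
    ∃ F : A[X], F.Monic ∧ aeval u F = 0 ∧
      ∀ (n : Ideal B) [n.IsMaximal], Algebra.IsUnramifiedAt A n → aeval u (derivative F) ∉ n := by
  classical
  let m := IsLocalRing.maximalIdeal A
  let J : Ideal B := m.map (algebraMap A B)
  letI : Field (A ⧸ m) := Ideal.Quotient.field m
  haveI : Module.Finite (A ⧸ m) (B ⧸ J) :=
    Module.Finite.of_restrictScalars_finite A (A ⧸ m) (B ⧸ J)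
  let ub : B ⧸ J := Ideal.Quotient.mk J u
  let f := minpoly (A ⧸ m) ub
  have hub : IsIntegral (A ⧸ m) ub := Algebra.IsIntegral.isIntegral ub
  have hf : f.Monic := minpoly.monic hub
  have hred : ∀ G : A[X], aeval ub (G.map (Ideal.Quotient.mk m)) = Ideal.Quotient.mk J (aeval u G) := by
    intro G
    rw [show Ideal.Quotient.mk m = algebraMap A (A ⧸ m) from rfl, aeval_map_algebraMap]
    exact aeval_algHom_apply (Ideal.Quotient.mkₐ A J) u G
  -- the powers of `u` below the degree of `f` generate
  have hgen : Submodule.span A (Set.range fun i : Fin f.natDegree => u ^ (i : ℕ)) = ⊤ := by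
    refine Submodule.eq_top_iff'.mpr fun b => ?_
    have key : (⊤ : Submodule A B) ≤
        Submodule.span A (Set.range fun i : Fin f.natDegree => u ^ (i : ℕ)) ⊔ m • ⊤ := by
      rintro b -
      obtain ⟨G, rfl⟩ : ∃ G : A[X], aeval u G = b := by
        have : b ∈ (aeval (R := A) u).range := by
          rw [← Algebra.adjoin_singleton_eq_range_aeval, hu]; trivial
        exact this
      obtain ⟨F₀, hF₀, hdeg, hF₀m⟩ := Polynomial.lifts_and_degree_eq_and_monic
        ((Polynomial.mem_lifts f).mpr
          (Polynomial.map_surjective _ Ideal.Quotient.mk_surjective f)) hf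
      have hdeg' : F₀.natDegree = f.natDegree := natDegree_eq_of_degree_eq hdeg
      rw [← Polynomial.modByMonic_add_div G F₀, map_add, map_mul]
      refine Submodule.add_mem_sup ?_ ?_
      · rw [aeval_eq_sum_range]
        refine Submodule.sum_mem _ fun i hi => ?_
        by_cases hid : i < f.natDegree
        · exact Submodule.smul_mem _ _ (Submodule.subset_span ⟨⟨i, hid⟩, rfl⟩)
        · have h0 : (G %ₘ F₀).coeff i = 0 := by
            refine coeff_eq_zero_of_degree_lt (lt_of_lt_of_le (degree_modByMonic_lt G hF₀m) ?_)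
            rw [degree_eq_natDegree hF₀m.ne_zero, hdeg']
            exact_mod_cast not_lt.mp hid
          rw [h0, zero_smul]
          exact Submodule.zero_mem _
      · rw [Ideal.smul_top_eq_map, Submodule.restrictScalars_mem]
        refine Ideal.mul_mem_right _ _ ?_
        rw [← Ideal.Quotient.eq_zero_iff_mem, ← hred, hF₀]
        exact minpoly.aeval _ _
    exact Submodule.le_of_le_smul_of_le_jacobson_bot (Module.Finite.fg_top)
      (IsLocalRing.maximalIdeal_le_jacobson _) key trivial
  -- the monic relation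
  obtain ⟨c, hc⟩ := (Submodule.mem_span_range_iff_exists_fun A).mp
    (show u ^ f.natDegree ∈ Submodule.span A _ by rw [hgen]; trivial)
  let R₀ : A[X] := ∑ i : Fin f.natDegree, C (c i) * X ^ (i : ℕ)
  have hR₀ : R₀.degree < f.natDegree := degree_sum_fin_lt c
  let F : A[X] := X ^ f.natDegree - R₀
  have hF : F.Monic := monic_X_pow_sub (lt_of_lt_of_le hR₀ le_rfl)
  have hFu : aeval u F = 0 := by
    simp only [F, R₀, map_sub, map_pow, aeval_X, map_sum, map_mul, aeval_C, ← Algebra.smul_def, hc,
      sub_self]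
  have hFdeg : F.natDegree = f.natDegree := by
    apply natDegree_eq_of_degree_eq_some
    rw [show F = X ^ f.natDegree - R₀ from rfl, degree_sub_eq_left_of_degree_lt, degree_X_pow]
    rwa [degree_X_pow]
  refine ⟨F, hF, hFu, fun n _ hn hF' => ?_⟩
  haveI := hn
  -- every relation has derivative in `n`
  have hJn : J ≤ n := Ideal.map_le_iff_le_comap.mpr (by
    haveI := Algebra.IsIntegral.of_finite A B
    rw [show (n.comap (algebraMap A B)) = m from IsLocalRing.eq_maximalIdeal
      (Ideal.isMaximal_comap_of_isIntegral_of_isMaximal (R := A) n)])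
  have hrel : ∀ G : A[X], aeval u G = 0 → aeval u (derivative G) ∈ n := by
    intro G hG
    have hR : aeval u (G %ₘ F) = 0 := by
      rw [← Polynomial.modByMonic_add_div G F, map_add, map_mul, hFu, zero_mul, add_zero] at hG
      exact hG
    have hR0 : (G %ₘ F).map (Ideal.Quotient.mk m) = 0 := by
      by_contra hne
      have h1 := minpoly.degree_le_of_ne_zero (A ⧸ m) ub hne (by rw [hred, hR, map_zero])
      have h2 : ((G %ₘ F).map (Ideal.Quotient.mk m)).degree < f.degree :=
        lt_of_le_of_lt degree_map_le (lt_of_lt_of_le (degree_modByMonic_lt G hF)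
          (by rw [degree_eq_natDegree hF.ne_zero, degree_eq_natDegree hf.ne_zero, hFdeg]))
      exact absurd h1 (not_le.mpr h2)
    rw [← Polynomial.modByMonic_add_div G F, derivative_add, derivative_mul, map_add, map_add,
      map_mul, map_mul, hFu, zero_mul, add_zero]
    refine n.add_mem ?_ (n.mul_mem_right _ hF')
    refine hJn ?_
    rw [← Ideal.Quotient.eq_zero_iff_mem, ← hred, ← derivative_map, hR0, derivative_zero, map_zero]
  -- hence a nontrivial derivation at `n`
  letI : Field (B ⧸ n) := Ideal.Quotient.field n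
  let E := TrivSqZeroExt (B ⧸ n) (B ⧸ n)
  let x₀ : E := TrivSqZeroExt.inl (Ideal.Quotient.mk n u)
  let θ : A[X] →ₐ[A] E := aeval (x₀ + TrivSqZeroExt.inr 1)
  let inlA : B →ₐ[A] E :=
    (TrivSqZeroExt.inlAlgHom A (B ⧸ n) (B ⧸ n)).comp (Ideal.Quotient.mkₐ A n)
  have hsurj : Function.Surjective (aeval u : A[X] →ₐ[A] B) := fun b => by
    have : b ∈ (aeval (R := A) u).range := by
      rw [← Algebra.adjoin_singleton_eq_range_aeval, hu]; trivial
    exact this
  have hker : ∀ G : A[X], G ∈ RingHom.ker (aeval u : A[X] →ₐ[A] B) → θ G = 0 := by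
    intro G hG
    rw [RingHom.mem_ker] at hG
    have h1 : ∀ P : A[X], aeval x₀ P = inlA (aeval u P) := fun P =>
      aeval_algHom_apply inlA u P
    show aeval _ G = 0
    rw [Polynomial.aeval_add_of_sq_eq_zero _ _ _ (by rw [sq, TrivSqZeroExt.inr_mul_inr]),
      h1, h1, hG, map_zero, zero_add]
    have : inlA (aeval u (derivative G)) = 0 := by
      show TrivSqZeroExt.inl (Ideal.Quotient.mk n _) = 0
      rw [Ideal.Quotient.eq_zero_iff_mem.mpr (hrel G hG), TrivSqZeroExt.inl_zero]
    rw [this, zero_mul]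
  let D : B →ₐ[A] E := (Ideal.Quotient.liftₐ _ θ hker).comp
    (Ideal.quotientKerAlgEquivOfSurjective hsurj).symm.toAlgHom
  have hD : ∀ G : A[X], D (aeval u G) = θ G := fun G => by
    show Ideal.Quotient.liftₐ _ θ hker ((Ideal.quotientKerAlgEquivOfSurjective hsurj).symm _) = _
    rw [Ideal.quotientKerAlgEquivOfSurjective_symm_apply]
    rfl
  have hDu : D u = x₀ + TrivSqZeroExt.inr 1 := by
    have := hD X
    rwa [aeval_X, show θ X = _ from aeval_X _] at this
  let fst : E →ₐ[A] (B ⧸ n) := TrivSqZeroExt.fstHom A (B ⧸ n) (B ⧸ n)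
  have hfst : ∀ b, fst (D b) = Ideal.Quotient.mk n b := fun b => by
    obtain ⟨G, rfl⟩ := hsurj b
    rw [hD, show θ G = aeval _ G from rfl, ← aeval_algHom_apply]
    rw [show fst (x₀ + TrivSqZeroExt.inr 1) = Ideal.Quotient.mkₐ A n u from by
      show TrivSqZeroExt.fst (x₀ + TrivSqZeroExt.inr 1) = _
      rw [TrivSqZeroExt.fst_add, TrivSqZeroExt.fst_inl, TrivSqZeroExt.fst_inr, add_zero]
      rfl]
    exact aeval_algHom_apply _ u G
  have hu1 : ∀ s : n.primeCompl, IsUnit (D s) := fun s => by
    rw [TrivSqZeroExt.isUnit_iff_isUnit_fst, show (D s).fst = _ from hfst s]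
    exact IsUnit.mk0 _ fun h => s.2 (Ideal.Quotient.eq_zero_iff_mem.mp h)
  have hu2 : ∀ s : n.primeCompl, IsUnit (inlA s) := fun s => by
    show IsUnit (TrivSqZeroExt.inl (Ideal.Quotient.mk n (s : B)))
    rw [TrivSqZeroExt.isUnit_iff_isUnit_fst, TrivSqZeroExt.fst_inl]
    exact IsUnit.mk0 _ fun h => s.2 (Ideal.Quotient.eq_zero_iff_mem.mp h)
  let L := Localization.AtPrime n
  let D' : L →ₐ[A] E := IsLocalization.liftAlgHom (M := n.primeCompl) hu1
  let I' : L →ₐ[A] E := IsLocalization.liftAlgHom (M := n.primeCompl) hu2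
  have heq : D' = I' := Algebra.FormallyUnramified.ext
    (TrivSqZeroExt.kerIdeal (B ⧸ n) (B ⧸ n)) ⟨2, TrivSqZeroExt.kerIdeal_sq _ _⟩ fun x => by
      obtain ⟨b, s, rfl⟩ := IsLocalization.exists_mk'_eq n.primeCompl x
      have hh : (fst.toRingHom.comp D'.toRingHom) = (fst.toRingHom.comp I'.toRingHom) := by
        refine IsLocalization.ringHom_ext n.primeCompl (RingHom.ext fun b => ?_)
        show fst (D' (algebraMap B L b)) = fst (I' (algebraMap B L b))
        rw [IsLocalization.liftAlgHom_apply, IsLocalization.liftAlgHom_apply,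
          IsLocalization.lift_eq, IsLocalization.lift_eq]
        exact (hfst b).trans (TrivSqZeroExt.fst_inl (B ⧸ n) (Ideal.Quotient.mk n b)).symm
      rw [Ideal.Quotient.eq, TrivSqZeroExt.kerIdeal, RingHom.mem_ker, map_sub, sub_eq_zero]
      exact RingHom.congr_fun hh _
  have := congrArg (fun g => g (algebraMap B L u)) heq
  simp only [D', I', IsLocalization.liftAlgHom_apply, IsLocalization.lift_eq] at this
  have h2 := congrArg TrivSqZeroExt.snd (show D u = inlA u from this)
  rw [hDu] at h2
  rw [TrivSqZeroExt.snd_add, TrivSqZeroExt.snd_inr, TrivSqZeroExt.snd_inl, zero_add] at h2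
  exact one_ne_zero (α := B ⧸ n) (h2.trans (TrivSqZeroExt.snd_inl (B ⧸ n) (Ideal.Quotient.mk n u)))

end Groth.Agent.UnrMono26
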